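import Groth.Prelude.Def_W4c5quivmodgenus0Quiv
import Mathlib.LinearAlgebra.FiniteDimensional.Lemmas
import Mathlib.Algebra.Order.BigOperators.Group.Finset
import Mathlib.Tactic.Linarith

/-! Subrepresentations of the plane quiver. -/

set_option autoImplicit false

universe u v

namespace Groth.Agent.PtQuiv5

open PtQuiv

variable {K : Type u} [Field K] {ι : Type v}

/-- The three kinds of subspaces of the plane. -/
theorem cases_plane (L : Submodule K (Fin 2 → K)) :
    L = ⊥ ∨ (∃ v, v ≠ 0 ∧ L = K ∙ v) ∨ L = ⊤ := by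
  rcases eq_or_ne L ⊥ with h | h
  · exact Or.inl h
  rcases eq_or_ne L ⊤ with h' | h'
  · exact Or.inr (Or.inr h')
  refine Or.inr (Or.inl ?_)
  obtain ⟨v, hv, hv0⟩ := (Submodule.ne_bot_iff L).1 h
  refine ⟨v, hv0, (Submodule.eq_of_le_of_finrank_le (Submodule.span_singleton_le_iff_mem _ _ |>.2 hv) ?_).symm⟩
  rw [finrank_span_singleton hv0]
  have := Submodule.finrank_lt h'
  rw [Module.finrank_pi, Fintype.card_fin] at this
  omega

theorem wt_bot (θ : ι → ℚ) (I : Finset ι) : QWt K (-1) θ ⊥ I = ∑ i ∈ I, θ i := by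
  simp [QWt]

theorem wt_line {v : Fin 2 → K} (hv : v ≠ 0) (θ : ι → ℚ) (I : Finset ι) :
    QWt K (-1) θ (K ∙ v) I = -1 + ∑ i ∈ I, θ i := by
  simp [QWt, finrank_span_singleton hv]

theorem wt_top (θ : ι → ℚ) (I : Finset ι) : QWt K (-1) θ ⊤ I = -2 + ∑ i ∈ I, θ i := by
  rw [QWt, finrank_top, Module.finrank_pi, Fintype.card_fin]
  norm_num

theorem empty_of_bot {s : ι → (Fin 2 → K)} (hs : ∀ i, s i ≠ 0) {I : Finset ι}
    (h : QSubrep s ⊥ I) : I = ∅ :=
  Finset.eq_empty_of_forall_notMem fun i hi => hs i ((Submodule.mem_bot K).1 (h i hi))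

end Groth.Agent.PtQuiv5
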