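import Groth.Agent.PtQuiv5.Basic
import Mathlib.LinearAlgebra.LinearIndependent.Lemmas
import Mathlib.Tactic.FieldSimp
import Mathlib.Tactic.Ring

/-! From the plane quiver to the quiver with two sinks, for two chosen independent vectors. -/

set_option autoImplicit false
set_option linter.unusedSectionVars false
set_option linter.style.haveILetI false

universe u v

namespace Groth.Agent.PtQuiv5

open PtQuiv Module

variable {K : Type u} [Field K] {κ : Type v} [Fintype κ] [DecidableEq κ] {a b : κ} {s : κ → (Fin 2 → K)}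
  {θ : κ → ℚ}

/-- The scaled weight of the small quiver. -/
noncomputable def bigWt (a b : κ) (θ : κ → ℚ) (U : Fin 2 → Submodule K K)
    (I : Finset {i : κ // i ≠ a ∧ i ≠ b}) : ℚ :=
  (θ a - 1) * (finrank K (U 0) : ℚ) + (θ b - 1) * (finrank K (U 1) : ℚ) + ∑ i ∈ I, θ i.1

theorem fr_top {V : Submodule K K} (h : V = ⊤) : (finrank K V : ℚ) = 1 := by
  subst h; simp [finrank_top, Module.finrank_self]

theorem fr_bot {V : Submodule K K} (h : V = ⊥) : (finrank K V : ℚ) = 0 := by
  subst h; simp

theorem pwt_eq (c : ℚ) (U : Fin 2 → Submodule K K) (I : Finset {i : κ // i ≠ a ∧ i ≠ b}) :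
    PWt K ![c * (θ a - 1), c * (θ b - 1)] (fun i => c * θ i.1) U I = c * bigWt a b θ U I := by
  simp [PWt, bigWt, Fin.sum_univ_two, ← Finset.mul_sum]
  ring

theorem sum_sub (hab : a ≠ b) (h2 : ∑ i, θ i = 2) :
    ∑ i : {i : κ // i ≠ a ∧ i ≠ b}, θ i.1 = 2 - θ a - θ b := by
  have : ∑ i, θ i = θ a + θ b + ∑ i : {i : κ // i ≠ a ∧ i ≠ b}, θ i.1 := by
    rw [← Finset.sum_filter_add_sum_filter_not Finset.univ (fun i => i ≠ a ∧ i ≠ b) θ,
      Finset.sum_subtype (p := fun i => i ≠ a ∧ i ≠ b) _ (by simp),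
      show Finset.univ.filter (fun i => ¬ (i ≠ a ∧ i ≠ b)) = {a, b} by
        ext i; simp [imp_iff_not_or], Finset.sum_pair hab]
    ring
  linarith

variable (hab : a ≠ b)

/-- Re-inserting the two special indices. -/
noncomputable def extend (I : Finset {i : κ // i ≠ a ∧ i ≠ b}) (J : Finset κ) : Finset κ :=
  I.map (Function.Embedding.subtype _) ∪ J

theorem mem_extend {I : Finset {i : κ // i ≠ a ∧ i ≠ b}} {J : Finset κ} {i : κ} :
    i ∈ extend I J ↔ (∃ h, (⟨i, h⟩ : {i : κ // i ≠ a ∧ i ≠ b}) ∈ I) ∨ i ∈ J := by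
  simp [extend]

theorem sum_extend (I : Finset {i : κ // i ≠ a ∧ i ≠ b}) {J : Finset κ} (hJ : J ⊆ {a, b}) :
    ∑ i ∈ extend I J, θ i = ∑ i ∈ I, θ i.1 + ∑ i ∈ J, θ i := by
  rw [extend, Finset.sum_union, Finset.sum_map]
  · rfl
  · refine Finset.disjoint_left.2 fun i hi hiJ => ?_
    obtain ⟨x, -, rfl⟩ := Finset.mem_map.1 hi
    have := hJ hiJ
    simp [x.2.1, x.2.2] at this

/-- The part away from the special indices. -/
noncomputable def rest (I : Finset κ) : Finset {i : κ // i ≠ a ∧ i ≠ b} :=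
  Finset.univ.filter fun i => i.1 ∈ I

include hab in
theorem sum_rest (I : Finset κ) :
    ∑ i ∈ I, θ i = ∑ i ∈ rest (a := a) (b := b) I, θ i.1 + (if a ∈ I then θ a else 0) + (if b ∈ I then θ b else 0) := by
  have : I = extend (rest (a := a) (b := b) I) (I ∩ {a, b}) := by
    ext i
    simp [mem_extend, rest]
    tauto
  conv_lhs => rw [this]
  rw [sum_extend _ Finset.inter_subset_right]
  by_cases ha : a ∈ I <;> by_cases hb : b ∈ I <;> simp [ha, hb, hab, Finset.sum_pair hab, add_assoc]

variable {t : {i : κ // i ≠ a ∧ i ≠ b} → (Fin 2 → K)}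
variable (hind : LinearIndependent K ![s a, s b]) (ht : ∀ i, s i.1 = t i 0 • s a + t i 1 • s b)

include hind in
theorem ne_zero_left : s a ≠ 0 := hind.ne_zero 0

include hind in
theorem ne_zero_right : s b ≠ 0 := hind.ne_zero 1

include hind in
theorem coeff_zero {x y : K} (h : x • s a + y • s b = 0) : x = 0 ∧ y = 0 :=
  LinearIndependent.pair_iff.1 hind x y h

include hab hind ht in
/-- The small subrepresentation read in the plane. -/
theorem exists_big (U : Fin 2 → Submodule K K) (I : Finset {i : κ // i ≠ a ∧ i ≠ b}) (hsub : PSubrep t U I) :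
    ∃ L J, QSubrep s L J ∧ QWt K (-1) θ L J = bigWt a b θ U I ∧
      (L = ⊥ ∧ J = ∅ → U = ⊥ ∧ I = ∅) ∧ (L = ⊤ ∧ J = Finset.univ → U = ⊤ ∧ I = Finset.univ) := by
  have hsa := ne_zero_left hind
  have hsb := ne_zero_right hind
  have hI : ∀ J : Finset κ, extend I J = ∅ → I = ∅ := fun J h => by
    refine Finset.eq_empty_of_forall_notMem fun i hi => ?_
    exact (Finset.notMem_empty i.1) (h ▸ mem_extend.2 (Or.inl ⟨i.2, hi⟩))
  have hU : ∀ J : Finset κ, J ⊆ {a, b} → extend I J = Finset.univ → I = Finset.univ := fun J hJ h => by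
    refine Finset.eq_univ_of_forall fun i => ?_
    rcases mem_extend.1 (h ▸ Finset.mem_univ i.1) with ⟨_, hi⟩ | hi
    · exact hi
    · have := hJ hi
      simp [i.2.1, i.2.2] at this
  have hU' : ∀ (V : Fin 2 → Submodule K K), U 0 = V 0 → U 1 = V 1 → U = V := fun V e e' =>
    funext fun j => by fin_cases j <;> assumption
  rcases eq_bot_or_eq_top (U 0) with e0 | e0 <;> rcases eq_bot_or_eq_top (U 1) with e1 | e1
  · refine ⟨⊥, extend I ∅, fun i hi => ?_, ?_, fun h => ⟨hU' _ e0 e1, hI _ h.2⟩, fun h => ?_⟩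
    · rcases mem_extend.1 hi with ⟨hh, hi⟩ | hi
      · have h0 := e0 ▸ hsub _ hi 0
        have h1 := e1 ▸ hsub _ hi 1
        simp only [Submodule.mem_bot] at h0 h1
        have e := ht ⟨i, hh⟩
        rw [h0, h1] at e
        simpa using e
      · simp at hi
    · rw [wt_bot, sum_extend _ (by simp), bigWt, e0, e1]
      simp
    · exact absurd h.1 bot_ne_top
  · refine ⟨K ∙ s b, extend I {b}, fun i hi => ?_, ?_, fun h => ?_, fun h => ?_⟩
    · rcases mem_extend.1 hi with ⟨hh, hi⟩ | hi
      · have h0 := e0 ▸ hsub _ hi 0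
        simp only [Submodule.mem_bot] at h0
        rw [show s i = t ⟨i, hh⟩ 1 • s b by rw [ht ⟨i, hh⟩, h0, zero_smul, zero_add]]
        exact Submodule.smul_mem _ _ (Submodule.mem_span_singleton_self _)
      · rw [Finset.mem_singleton] at hi
        exact hi ▸ Submodule.mem_span_singleton_self _
    · rw [wt_line hsb, sum_extend _ (by simp), bigWt, e0, e1]
      simp
      ring
    · exact absurd (Submodule.span_singleton_eq_bot.1 h.1) hsb
    · have := congrArg (fun L : Submodule K (Fin 2 → K) => finrank K L) h.1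
      simp [finrank_span_singleton hsb] at this
  · refine ⟨K ∙ s a, extend I {a}, fun i hi => ?_, ?_, fun h => ?_, fun h => ?_⟩
    · rcases mem_extend.1 hi with ⟨hh, hi⟩ | hi
      · have h1 := e1 ▸ hsub _ hi 1
        simp only [Submodule.mem_bot] at h1
        rw [show s i = t ⟨i, hh⟩ 0 • s a by rw [ht ⟨i, hh⟩, h1, zero_smul, add_zero]]
        exact Submodule.smul_mem _ _ (Submodule.mem_span_singleton_self _)
      · rw [Finset.mem_singleton] at hi
        exact hi ▸ Submodule.mem_span_singleton_self _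
    · rw [wt_line hsa, sum_extend _ (by simp), bigWt, e0, e1]
      simp
      ring
    · exact absurd (Submodule.span_singleton_eq_bot.1 h.1) hsa
    · have := congrArg (fun L : Submodule K (Fin 2 → K) => finrank K L) h.1
      simp [finrank_span_singleton hsa] at this
  · refine ⟨⊤, extend I {a, b}, fun i _ => Submodule.mem_top, ?_, fun h => absurd h.1 top_ne_bot,
      fun h => ⟨hU' _ e0 e1, hU _ subset_rfl h.2⟩⟩
    rw [wt_top, sum_extend _ subset_rfl, bigWt, e0, e1, Finset.sum_pair hab]
    simp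
    ring

include hab hind ht in
/-- A plane subrepresentation is negative or bounded by a small one. -/
theorem exists_small (h0 : ∀ i, 0 ≤ θ i) (h2 : ∑ i, θ i = 2) (hθ : 1 < θ a + θ b) (ha0 : 0 < θ a) (hb0 : 0 < θ b)
    (L : Submodule K (Fin 2 → K)) (J : Finset κ) (hsub : QSubrep s L J) :
    QWt K (-1) θ L J < 0 ∨ ∃ U I, PSubrep t U I ∧ QWt K (-1) θ L J ≤ bigWt a b θ U I ∧
      (QWt K (-1) θ L J = bigWt a b θ U I → (U = ⊥ ∧ I = ∅ → L = ⊥ ∧ J = ∅) ∧
        (U = ⊤ ∧ I = Finset.univ → L = ⊤ ∧ J = Finset.univ)) := by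
  have hsa := ne_zero_left hind
  have hsb := ne_zero_right hind
  let I := rest (a := a) (b := b) J
  have hI : ∀ i ∈ I, s i.1 ∈ L := fun i hi => hsub _ (Finset.mem_filter.1 hi).2
  rcases cases_plane L with rfl | ⟨v, hv, rfl⟩ | rfl
  · have haJ : a ∉ J := fun h => hsa ((Submodule.mem_bot K).1 (hsub a h))
    have hbJ : b ∉ J := fun h => hsb ((Submodule.mem_bot K).1 (hsub b h))
    have hw : QWt K (-1) θ ⊥ J = ∑ i ∈ I, θ i.1 := by
      rw [wt_bot, sum_rest hab]; simp [haJ, hbJ, I]
    refine Or.inr ⟨⊥, I, fun i hi j => ?_, ?_, fun _ => ⟨fun h => ⟨rfl, ?_⟩, fun h => ?_⟩⟩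
    · have e := (ht i).symm.trans ((Submodule.mem_bot K).1 (hI i hi))
      obtain ⟨e0, e1⟩ := coeff_zero hind e
      fin_cases j <;> simpa
    · rw [hw, bigWt]; simp
    · refine Finset.eq_empty_of_forall_notMem fun i hi => ?_
      have hi' : (⟨i, fun e => haJ (e ▸ hi), fun e => hbJ (e ▸ hi)⟩ : {i : κ // i ≠ a ∧ i ≠ b}) ∈ I :=
        Finset.mem_filter.2 ⟨Finset.mem_univ _, hi⟩
      exact Finset.notMem_empty _ (h.2 ▸ hi')
    · exact absurd (congrFun h.1 0) bot_ne_top
  · have hline : ∀ {x}, x ≠ 0 → x ∈ K ∙ v → (K ∙ v) = K ∙ x := fun {x} hx hxv => by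
      obtain ⟨c, rfl⟩ := Submodule.mem_span_singleton.1 hxv
      exact (Submodule.span_singleton_smul_eq (isUnit_iff_ne_zero.2 (smul_ne_zero_iff.1 hx).1) v).symm
    have hne : ∀ {x}, x ≠ 0 → (K ∙ x) ≠ (⊤ : Submodule K (Fin 2 → K)) := fun {x} hx e => by
      have := congrArg (fun L : Submodule K (Fin 2 → K) => finrank K L) e
      simp [finrank_span_singleton hx] at this
    by_cases hva : s a ∈ K ∙ v
    · have hbJ : b ∉ J := fun h => by
        have hb' := hsub b h
        rw [hline hsa hva] at hb'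
        obtain ⟨c, hc⟩ := Submodule.mem_span_singleton.1 hb'
        have := (coeff_zero hind (x := c) (y := -1) (by rw [hc, neg_one_smul, add_neg_cancel])).2
        simp at this
      refine Or.inr ⟨![⊤, ⊥], I, fun i hi j => ?_, ?_, fun _ => ⟨fun h => ?_, fun h => ?_⟩⟩
      · fin_cases j
        · simp
        · have hm := hI i hi
          rw [hline hsa hva, ht i] at hm
          obtain ⟨c, hc⟩ := Submodule.mem_span_singleton.1 hm
          have h' : (t i 0 - c) • s a + t i 1 • s b = 0 := by rw [sub_smul, hc]; abel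
          simpa using (coeff_zero hind h').2
      · rw [wt_line hv, sum_rest hab, bigWt, fr_top (by simp), fr_bot (by simp)]
        simp [hbJ, I]
        split_ifs <;> linarith
      · exact absurd (congrFun h.1 0) (by simp)
      · exact absurd (congrFun h.1 1) (by simp)
    · by_cases hvb : s b ∈ K ∙ v
      · have haJ : a ∉ J := fun h => hva (hsub a h)
        refine Or.inr ⟨![⊥, ⊤], I, fun i hi j => ?_, ?_, fun _ => ⟨fun h => ?_, fun h => ?_⟩⟩
        · fin_cases j
          · have hm := hI i hi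
            rw [hline hsb hvb, ht i] at hm
            obtain ⟨c, hc⟩ := Submodule.mem_span_singleton.1 hm
            have h' : t i 0 • s a + (t i 1 - c) • s b = 0 := by rw [sub_smul, hc]; abel
            simpa using (coeff_zero hind h').1
          · simp
        · rw [wt_line hv, sum_rest hab, bigWt, fr_bot (V := ![⊥, ⊤] 0) (by simp), fr_top (V := ![⊥, ⊤] 1) (by simp)]
          simp [haJ, I]
          split_ifs <;> linarith
        · exact absurd (congrFun h.1 1) (by simp)
        · exact absurd (congrFun h.1 0) (by simp)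
      · refine Or.inl ?_
        have haJ : a ∉ J := fun h => hva (hsub a h)
        have hbJ : b ∉ J := fun h => hvb (hsub b h)
        rw [wt_line hv, sum_rest hab]
        simp [haJ, hbJ]
        have := Finset.sum_le_univ_sum_of_nonneg (f := fun i : {i : κ // i ≠ a ∧ i ≠ b} => θ i.1)
          (fun i => h0 i.1) (s := rest (a := a) (b := b) J)
        rw [sum_sub hab h2] at this
        linarith
  · refine Or.inr ⟨⊤, I, fun i _ j => Submodule.mem_top, ?_, fun e => ⟨fun h => ?_, fun h => ⟨rfl, ?_⟩⟩⟩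
    · rw [wt_top, sum_rest hab, bigWt]
      simp [I, finrank_top, Module.finrank_self]
      split_ifs <;> linarith
    · exact absurd (congrFun h.1 0) top_ne_bot
    · rw [wt_top, sum_rest hab, bigWt] at e
      simp only [I, h.2] at e
      have hab' : a ∈ J ∧ b ∈ J := by
        constructor <;> by_contra hh <;> simp [hh] at e <;> split_ifs at e <;> linarith
      refine Finset.eq_univ_of_forall fun i => ?_
      by_cases hi : i ≠ a ∧ i ≠ b
      · exact (Finset.mem_filter.1 (h.2 ▸ Finset.mem_univ (⟨i, hi⟩ : {i : κ // i ≠ a ∧ i ≠ b}) : _ ∈ I)).2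
      · rcases not_and_or.1 hi with h' | h' <;> rw [not_not] at h' <;> subst h'
        exacts [hab'.1, hab'.2]

include hab in
/-- Semistability forces the two vectors to be independent. -/
theorem indep_of_semistable (h1 : ∀ i, θ i ≤ 1) (hθ : 1 < θ a + θ b) (h : QSemistable (-1) θ s) :
    LinearIndependent K ![s a, s b] := by
  have hsa : s a ≠ 0 := fun e => by
    have := h.2 ⊥ {a} (fun i hi => by rw [Finset.mem_singleton.1 hi, e]; exact zero_mem _)
    rw [wt_bot, Finset.sum_singleton] at this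
    linarith [h1 b]
  refine (LinearIndependent.pair_iff' hsa).2 fun c hc => ?_
  have := h.2 (K ∙ s a) {a, b} (fun i hi => by
    rcases Finset.mem_insert.1 hi with rfl | hi
    · exact Submodule.mem_span_singleton_self _
    · rw [Finset.mem_singleton.1 hi, ← hc]
      exact Submodule.smul_mem _ _ (Submodule.mem_span_singleton_self _))
  rw [wt_line hsa, Finset.sum_pair hab] at this
  linarith

include hind in
/-- Coordinates exist. -/
theorem exists_coeff : ∃ t : {i : κ // i ≠ a ∧ i ≠ b} → (Fin 2 → K), ∀ i, s i.1 = t i 0 • s a + t i 1 • s b := by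
  have hspan := hind.span_eq_top_of_card_eq_finrank' (by simp)
  have : ∀ i : {i : κ // i ≠ a ∧ i ≠ b}, ∃ c : Fin 2 → K, s i.1 = c 0 • s a + c 1 • s b := fun i => by
    have hm : s i.1 ∈ Submodule.span K (Set.range ![s a, s b]) := hspan ▸ Submodule.mem_top
    obtain ⟨c, hc⟩ := Submodule.mem_span_range_iff_exists_fun K |>.1 hm
    exact ⟨c, by simpa [Fin.sum_univ_two] using hc.symm⟩
  choose t ht using this
  exact ⟨t, ht⟩

end Groth.Agent.PtQuiv5
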